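import Mathlib
import Cfsg.Agent.Lib.LyDce.VImg
import Cfsg.Agent.TcData.Ly.Syl.CarQ0

set_option autoImplicit false
set_option Elab.async false
set_option maxRecDepth 100000
set_option linter.all false
set_option maxHeartbeats 0

namespace Cfsg.Agent.TcData.Ly.Syl.CarP

open Cfsg.Agent.Lib.LyDce Cfsg.Agent.Lib.FpVec Cfsg.Agent.Lib.LyV111

theorem C1_0 : ∀ i, i < 16 → Px X44 X44 X10 (i + 0) := by decide +kernel

theorem C1_16 : ∀ i, i < 16 → Px X44 X44 X10 (i + 16) := by decide +kernel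

theorem C1_32 : ∀ i, i < 16 → Px X44 X44 X10 (i + 32) := by decide +kernel

theorem C1_48 : ∀ i, i < 16 → Px X44 X44 X10 (i + 48) := by decide +kernel

theorem C1_64 : ∀ i, i < 16 → Px X44 X44 X10 (i + 64) := by decide +kernel

theorem C1_80 : ∀ i, i < 16 → Px X44 X44 X10 (i + 80) := by decide +kernel

theorem C1_96 : ∀ i, i < 15 → Px X44 X44 X10 (i + 96) := by decide +kernel

theorem C2_0 : ∀ i, i < 16 → Px X45 X45 X10 (i + 0) := by decide +kernel

theorem C2_16 : ∀ i, i < 16 → Px X45 X45 X10 (i + 16) := by decide +kernel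

theorem C2_32 : ∀ i, i < 16 → Px X45 X45 X10 (i + 32) := by decide +kernel

theorem C2_48 : ∀ i, i < 16 → Px X45 X45 X10 (i + 48) := by decide +kernel

theorem C2_64 : ∀ i, i < 16 → Px X45 X45 X10 (i + 64) := by decide +kernel

theorem C2_80 : ∀ i, i < 16 → Px X45 X45 X10 (i + 80) := by decide +kernel

theorem C2_96 : ∀ i, i < 15 → Px X45 X45 X10 (i + 96) := by decide +kernel

theorem C3_0 : ∀ i, i < 16 → Px X46 X46 X10 (i + 0) := by decide +kernel

theorem C3_16 : ∀ i, i < 16 → Px X46 X46 X10 (i + 16) := by decide +kernel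

theorem C3_32 : ∀ i, i < 16 → Px X46 X46 X10 (i + 32) := by decide +kernel

theorem C3_48 : ∀ i, i < 16 → Px X46 X46 X10 (i + 48) := by decide +kernel

theorem C3_64 : ∀ i, i < 16 → Px X46 X46 X10 (i + 64) := by decide +kernel

theorem C3_80 : ∀ i, i < 16 → Px X46 X46 X10 (i + 80) := by decide +kernel

theorem C3_96 : ∀ i, i < 15 → Px X46 X46 X10 (i + 96) := by decide +kernel

theorem C4_0 : ∀ i, i < 16 → Px X47 X33 (idL 2048 111) (i + 0) := by decide +kernel

theorem C4_16 : ∀ i, i < 16 → Px X47 X33 (idL 2048 111) (i + 16) := by decide +kernel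

theorem C4_32 : ∀ i, i < 16 → Px X47 X33 (idL 2048 111) (i + 32) := by decide +kernel

theorem C4_48 : ∀ i, i < 16 → Px X47 X33 (idL 2048 111) (i + 48) := by decide +kernel

theorem C4_64 : ∀ i, i < 16 → Px X47 X33 (idL 2048 111) (i + 64) := by decide +kernel

theorem C4_80 : ∀ i, i < 16 → Px X47 X33 (idL 2048 111) (i + 80) := by decide +kernel

theorem C4_96 : ∀ i, i < 15 → Px X47 X33 (idL 2048 111) (i + 96) := by decide +kernel

theorem C5_0 : ∀ i, i < 16 → Px X24 X10 X48 (i + 0) := by decide +kernel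

theorem C5_16 : ∀ i, i < 16 → Px X24 X10 X48 (i + 16) := by decide +kernel

theorem C5_32 : ∀ i, i < 16 → Px X24 X10 X48 (i + 32) := by decide +kernel

theorem C5_48 : ∀ i, i < 16 → Px X24 X10 X48 (i + 48) := by decide +kernel

theorem C5_64 : ∀ i, i < 16 → Px X24 X10 X48 (i + 64) := by decide +kernel

theorem C5_80 : ∀ i, i < 16 → Px X24 X10 X48 (i + 80) := by decide +kernel

theorem C5_96 : ∀ i, i < 15 → Px X24 X10 X48 (i + 96) := by decide +kernel

theorem C6_0 : ∀ i, i < 16 → Px X33 X10 X49 (i + 0) := by decide +kernel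

theorem C6_16 : ∀ i, i < 16 → Px X33 X10 X49 (i + 16) := by decide +kernel

theorem C6_32 : ∀ i, i < 16 → Px X33 X10 X49 (i + 32) := by decide +kernel

theorem C6_48 : ∀ i, i < 16 → Px X33 X10 X49 (i + 48) := by decide +kernel

theorem C6_64 : ∀ i, i < 16 → Px X33 X10 X49 (i + 64) := by decide +kernel

theorem C6_80 : ∀ i, i < 16 → Px X33 X10 X49 (i + 80) := by decide +kernel

theorem C6_96 : ∀ i, i < 15 → Px X33 X10 X49 (i + 96) := by decide +kernel

theorem C7_0 : ∀ i, i < 16 → Px X52 X24 (idL 2048 111) (i + 0) := by decide +kernel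

theorem C7_16 : ∀ i, i < 16 → Px X52 X24 (idL 2048 111) (i + 16) := by decide +kernel

theorem C7_32 : ∀ i, i < 16 → Px X52 X24 (idL 2048 111) (i + 32) := by decide +kernel

theorem C7_48 : ∀ i, i < 16 → Px X52 X24 (idL 2048 111) (i + 48) := by decide +kernel

theorem C7_64 : ∀ i, i < 16 → Px X52 X24 (idL 2048 111) (i + 64) := by decide +kernel

theorem C7_80 : ∀ i, i < 16 → Px X52 X24 (idL 2048 111) (i + 80) := by decide +kernel

theorem C7_96 : ∀ i, i < 15 → Px X52 X24 (idL 2048 111) (i + 96) := by decide +kernel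

end Cfsg.Agent.TcData.Ly.Syl.CarP
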